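import Cfsg.Agent.S3156
import Cfsg.Agent.UThreeFour.Rel
import Cfsg.Agent.Classical.Unitary.Center

/-!
The centralizer of an involution in `SU₃(4)`.
-/

set_option autoImplicit false
open Cfsg
open scoped commutatorElement Matrix

namespace CfsgLib.UThreeFour

open Cfsg.Agent.S3156

variable {F : Type*} [Field F] [Fintype F] (hF : Fintype.card F = 16)

/-- The entries of an element. -/
abbrev ent (g : SU 3 F 4) : Matrix (Fin 3) (Fin 3) F := (g : Matrix.SpecialLinearGroup (Fin 3) F).1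

theorem ext_ent {g h : SU 3 F 4} (he : ent g = ent h) : g = h := Subtype.ext (Subtype.ext he)

theorem ent_mul (g h : SU 3 F 4) : ent (g * h) = ent g * ent h := rfl

/-- The product in coordinates. -/
def pmul (p q : Pts F) : Pts F :=
  ⟨(p.1.1 + q.1.1, p.1.2 + q.1.2 + p.1.1 ^ 4 * q.1.1), by
    haveI := char_two hF
    haveI : Fact (Nat.Prime 2) := ⟨Nat.prime_two⟩
    have h4 : ∀ x y : F, (x + y) ^ 4 = x ^ 4 + y ^ 4 := fun x y => by
      rw [show (4 : ℕ) = 2 ^ 2 from rfl, add_pow_char_pow]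
    have h16 : (p.1.1 ^ 4) ^ 4 = p.1.1 := by
      rw [← pow_mul, show 4 * 4 = Fintype.card F from hF.symm]; exact FiniteField.pow_card _
    show _ + (_ + _ + _) ^ 4 = (_ + _) ^ 5
    rw [h4, h4, mul_pow, h16, pow_succ (p.1.1 + q.1.1) 4, h4]
    linear_combination p.2 + q.2⟩

theorem elt_mul (p q : Pts F) : elt hF p * elt hF q = elt hF (pmul hF p q) :=
  ext_ent (by rw [ent_mul]; exact mul_mat hF _ _ _ _)

theorem elt_congr {p q : Pts F} (h : p.1 = q.1) : elt hF p = elt hF q := by rw [Subtype.ext h]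

theorem elt_one (h : (0 : F) + 0 ^ 4 = 0 ^ 5) : elt hF ⟨(0, 0), h⟩ = 1 :=
  ext_ent (by
    show mat (0 : F) 0 = 1
    ext i j
    fin_cases i <;> fin_cases j <;> simp [mat])

/-- The commutator in coordinates. -/
def pcomm (p q : Pts F) : Pts F :=
  ⟨(0, p.1.1 ^ 4 * q.1.1 + q.1.1 ^ 4 * p.1.1), by
    haveI := char_two hF
    haveI : Fact (Nat.Prime 2) := ⟨Nat.prime_two⟩
    have h16 : ∀ x : F, (x ^ 4) ^ 4 = x := fun x => by
      rw [← pow_mul, show 4 * 4 = Fintype.card F from hF.symm]; exact FiniteField.pow_card _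
    have h2 : (2 : F) = 0 := CharTwo.two_eq_zero
    show _ + (_ + _) ^ 4 = (0 : F) ^ 5
    have h4 : ∀ x y : F, (x + y) ^ 4 = x ^ 4 + y ^ 4 := fun x y => by
      rw [show (4 : ℕ) = 2 ^ 2 from rfl, add_pow_char_pow]
    rw [h4, mul_pow, mul_pow, h16, h16]
    linear_combination (p.1.1 ^ 4 * q.1.1 + q.1.1 ^ 4 * p.1.1) * h2⟩

theorem elt_comm (p q : Pts F) : ⁅elt hF p, elt hF q⁆ = elt hF (pcomm hF p q) := by
  haveI := char_two hF
  have h2 : (2 : F) = 0 := CharTwo.two_eq_zero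
  have h : elt hF p * elt hF q = elt hF (pcomm hF p q) * (elt hF q * elt hF p) := by
    rw [elt_mul, elt_mul, elt_mul]
    refine elt_congr hF (Prod.ext ?_ ?_)
    · simp [pmul, pcomm, add_comm]
    · simp only [pmul, pcomm]
      linear_combination (-(q.1.1 ^ 4 * p.1.1)) * h2
  rw [commutatorElement_def, h]
  group

/-- `diag(x, x, x⁻²)` for `x⁵ = 1`. -/
def tor (x : F) (hx : x ^ 5 = 1) : SU 3 F 4 :=
  ⟨⟨!![x, 0, 0; 0, x, 0; 0, 0, x ^ 3], by
    simp [Matrix.det_fin_three]; linear_combination hx⟩, fun u v => by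
    show hermForm 3 F 4 (!![x, 0, 0; 0, x, 0; 0, 0, x ^ 3] *ᵥ u) (!![x, 0, 0; 0, x, 0; 0, 0, x ^ 3] *ᵥ v) =
      hermForm 3 F 4 u v
    simp [hermForm, Matrix.mulVec, dotProduct, Fin.sum_univ_three, mul_pow]
    linear_combination (u 0 * v 0 ^ 4 + u 1 * v 1 ^ 4 + u 2 * v 2 ^ 4 * (x ^ 10 + x ^ 5 + 1)) * hx⟩

theorem ent_tor (x : F) (hx : x ^ 5 = 1) : ent (tor x hx) = !![x, 0, 0; 0, x, 0; 0, 0, x ^ 3] := rfl

theorem tor_elt {x : F} (hx : x ^ 5 = 1) (p q : Pts F) (h : q.1 = (x ^ 2 * p.1.1, p.1.2)) :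
    cv (tor x hx) (elt hF p) = elt hF q := by
  rw [cv, mul_inv_eq_iff_eq_mul]
  refine ext_ent ?_
  rw [ent_mul, ent_mul]
  show ent (tor x hx) * mat p.1.1 p.1.2 = mat q.1.1 q.1.2 * ent (tor x hx)
  rw [ent_tor, h]
  ext i j
  fin_cases i <;> fin_cases j <;> simp [mat, Matrix.mul_apply, Fin.sum_univ_three] <;>
    first
    | ring1
    | linear_combination (x * p.1.1 ^ 4) * hx
    | linear_combination (-(x * p.1.1 ^ 4) * (x ^ 5 + 1)) * hx
    | linear_combination (-(x * p.1.1 ^ 4)) * hx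
    | grind

include hF in
theorem field_five : ∃ x : F, x ^ 5 = 1 ∧ x ≠ 1 := by
  classical
  obtain ⟨a, ha, hne⟩ : ∃ a : F, a ^ 3 ≠ 1 ∧ a ≠ 0 := by
    by_contra hcon
    push Not at hcon
    have h := Finset.card_le_card (show (Finset.univ : Finset F) ⊆ {0} ∪ (Polynomial.nthRoots 3 (1 : F)).toFinset from
      fun a _ => by
        by_cases h0 : a = 0
        · simp [h0]
        · have : a ^ 3 = 1 := by by_contra h3; exact h0 (hcon a h3)
          simp [Polynomial.mem_nthRoots (show 0 < 3 by norm_num), this])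
    rw [Finset.card_univ, hF] at h
    have h2 := (Finset.card_union_le {(0 : F)} (Polynomial.nthRoots 3 (1 : F)).toFinset)
    have h3 := (Multiset.toFinset_card_le (Polynomial.nthRoots 3 (1 : F))).trans (Polynomial.card_nthRoots 3 1)
    simp at h h2 h3
    omega
  refine ⟨a ^ 3, ?_, ha⟩
  rw [← pow_mul, show 3 * 5 = Fintype.card F - 1 by rw [hF]]
  exact FiniteField.pow_card_sub_one_eq_one a hne

/-- The data of the centralizer: a pair with the relations, and the bound on its order. -/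
theorem target (hF : Fintype.card F = 16) : ∃ (t : SU 3 F 4) (c v : Subgroup.centralizer ({t} : Set (SU 3 F 4))),
    orderOf t = 2 ∧ Rel c v ∧ c ≠ 1 ∧ ⁅v, cv c v⁆ ≠ 1 ∧ ⁅v, cv c (cv c v)⁆ ≠ 1 ∧
      ⁅v, cv c v⁆ ≠ ⁅v, cv c (cv c v)⁆ ∧
      Nat.card (Subgroup.centralizer ({t} : Set (SU 3 F 4))) ≤ 320 := by
  haveI := char_two hF
  have h2 : (2 : F) = 0 := CharTwo.two_eq_zero
  obtain ⟨x, hx, hx1⟩ := field_five hF
  obtain ⟨μ, hμ⟩ : ∃ μ, μ = x ^ 2 := ⟨_, rfl⟩
  have hμ5 : μ ^ 5 = 1 := by rw [hμ, ← pow_mul, show 2 * 5 = 5 * 2 by norm_num, pow_mul, hx, one_pow]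
  have hμ1 : μ ≠ 1 := fun h => hx1 (by
    have : x ^ 5 = x := by rw [show x ^ 5 = (x ^ 2) ^ 2 * x by ring, ← hμ, h]; ring
    rw [← this, hx])
  have hμ0 : μ ≠ 0 := fun h => by rw [h] at hμ5; simp at hμ5
  have hS : 1 + μ + μ ^ 2 + μ ^ 3 + μ ^ 4 = 0 := by
    have : (μ - 1) * (1 + μ + μ ^ 2 + μ ^ 3 + μ ^ 4) = 0 := by linear_combination hμ5
    exact (mul_eq_zero.1 this).resolve_left (sub_ne_zero.2 hμ1)
  haveI : Fact (Nat.Prime 2) := ⟨Nat.prime_two⟩
  have h4 : ∀ a b : F, (a + b) ^ 4 = a ^ 4 + b ^ 4 := fun a b => by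
    rw [show (4 : ℕ) = 2 ^ 2 from rfl, add_pow_char_pow]
  set β := μ + μ ^ 3 with hβ
  have hβ1 : β + β ^ 4 = 1 := by
    rw [hβ, h4, ← pow_mul, show μ ^ (3 * 4) = μ ^ 2 by linear_combination (μ ^ 7 + μ ^ 2) * hμ5]
    linear_combination hS - h2
  have hpt : ∀ a : F, a ^ 5 = 1 → β + β ^ 4 = (a, β).1 ^ 5 := fun a ha => by rw [hβ1, ha]
  have hp5 : ∀ k : ℕ, (μ ^ k) ^ 5 = 1 := fun k => by rw [← pow_mul, mul_comm, pow_mul, hμ5, one_pow]
  let p : ℕ → Pts F := fun k => ⟨(μ ^ k, β), hpt _ (hp5 k)⟩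
  let pt : Pts F := ⟨(0, 1), by
    show (1 : F) + 1 ^ 4 = 0 ^ 5
    linear_combination h2⟩
  set t := elt hF pt with ht
  set T := tor x hx with hT
  have hcvp : ∀ k, cv T (elt hF (p k)) = elt hF (p (k + 1)) := fun k =>
    tor_elt hF hx (p k) (p (k + 1)) (Prod.ext (by show μ ^ (k + 1) = x ^ 2 * μ ^ k; rw [← hμ, pow_succ']) rfl)
  have hcvt : cv T t = t := tor_elt hF hx pt pt (Prod.ext (by simp [pt]) rfl)
  have hTt : T ∈ Subgroup.centralizer ({t} : Set (SU 3 F 4)) := by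
    rw [Subgroup.mem_centralizer_singleton_iff]
    rw [cv, mul_inv_eq_iff_eq_mul] at hcvt
    exact hcvt
  have hpt' : ∀ q : Pts F, elt hF q ∈ Subgroup.centralizer ({t} : Set (SU 3 F 4)) := fun q => by
    rw [Subgroup.mem_centralizer_singleton_iff, ht, elt_mul, elt_mul]
    exact elt_congr hF (by simp [pmul, pt, add_comm])
  let c : Subgroup.centralizer ({t} : Set (SU 3 F 4)) := ⟨T, hTt⟩
  let v : Subgroup.centralizer ({t} : Set (SU 3 F 4)) := ⟨elt hF (p 0), hpt' _⟩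
  refine ⟨t, c, v, ?_⟩
  have ha : ⁅(v : SU 3 F 4), cv T v⁆ = elt hF (pcomm hF (p 0) (p 1)) := by
    show ⁅elt hF (p 0), cv T (elt hF (p 0))⁆ = _
    rw [hcvp, elt_comm]
  have hb : ⁅(v : SU 3 F 4), cv T (cv T v)⁆ = elt hF (pcomm hF (p 0) (p 2)) := by
    show ⁅elt hF (p 0), cv T (cv T (elt hF (p 0)))⁆ = _
    rw [hcvp, hcvp, elt_comm]
  have A : (pcomm hF (p 0) (p 1)).1 = (0, μ + μ ^ 4) := by
    refine Prod.ext rfl ?_
    simp [pcomm, p]
  have B : (pcomm hF (p 0) (p 2)).1 = (0, μ ^ 2 + μ ^ 3) := by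
    refine Prod.ext rfl ?_
    simp [pcomm, p]
    linear_combination (μ ^ 3) * hμ5
  have ca : ∀ q : Pts F, q.1.1 = 0 → cv T (elt hF q) = elt hF q := fun q hq =>
    tor_elt hF hx q q (Prod.ext (by simp [hq]) rfl)
  have comT : ∀ q : Pts F, q.1.1 = 0 → Commute T (elt hF q) := fun q hq => by
    have h := ca q hq
    rw [cv, mul_inv_eq_iff_eq_mul] at h
    exact h
  have comE : ∀ q r : Pts F, q.1.1 = 0 → Commute (elt hF r) (elt hF q) := fun q r hq => by
    show _ * _ = _ * _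
    rw [elt_mul, elt_mul]
    exact elt_congr hF (by simp [pmul, hq, add_comm])
  have h01 : ∀ (k : Pts F), k.1 = (0, 0) → elt hF k = 1 := fun k hk => by
    rw [← elt_one hF (by simp)]; exact elt_congr hF hk
  have sq0 : ∀ q : Pts F, q.1.1 = 0 → elt hF q * elt hF q = 1 := fun q hq => by
    rw [elt_mul]
    refine h01 _ ?_
    simp [pmul, hq]
    linear_combination q.1.2 * h2
  have ne : ∀ q r : Pts F, q.1 ≠ r.1 → elt hF q ≠ elt hF r := fun q r h he =>
    h (congrArg Subtype.val (elt_injective hF he))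
  have ne1 : ∀ q : Pts F, q.1.2 ≠ 0 → elt hF q ≠ 1 := fun q h => by
    rw [← elt_one hF (by simp)]; exact ne _ _ fun he => h (congrArg Prod.snd he)
  have A1 : (pcomm hF (p 0) (p 1)).1.1 = 0 := rfl
  have B1 : (pcomm hF (p 0) (p 2)).1.1 = 0 := rfl
  refine ⟨orderOf_eq_prime (by rw [pow_two]; exact sq0 pt rfl) (ne1 pt one_ne_zero), ⟨?_, ?_, ?_, ?_, ?_, ?_, ?_, ?_, ?_⟩,
    ?_, ?_, ?_, ?_, ?_⟩
  · refine Subtype.ext (ext_ent ?_)
    have hm : !![x, 0, 0; 0, x, 0; 0, 0, x ^ 3] = Matrix.diagonal ![x, x, x ^ 3] := by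
      ext i j
      fin_cases i <;> fin_cases j <;> simp
    show ((T ^ 5 : SU 3 F 4) : Matrix.SpecialLinearGroup (Fin 3) F).1 = 1
    rw [SubmonoidClass.coe_pow, Matrix.SpecialLinearGroup.coe_pow]
    show ent T ^ 5 = 1
    rw [ent_tor, hm, Matrix.diagonal_pow, ← Matrix.diagonal_one]
    congr 1
    funext i
    fin_cases i <;> simp [hx]
    rw [← pow_mul, show 3 * 5 = 5 * 3 by norm_num, pow_mul, hx, one_pow]
  · exact Subtype.ext (show T * ⁅(v : SU 3 F 4), cv T v⁆ = ⁅(v : SU 3 F 4), cv T v⁆ * T by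
      rw [ha]; exact comT _ A1)
  · exact Subtype.ext (show elt hF (p 0) * ⁅(v : SU 3 F 4), cv T v⁆ = ⁅(v : SU 3 F 4), cv T v⁆ * elt hF (p 0) by
      rw [ha]; exact comE _ _ A1)
  · exact Subtype.ext (show T * ⁅(v : SU 3 F 4), cv T (cv T v)⁆ = ⁅(v : SU 3 F 4), cv T (cv T v)⁆ * T by
      rw [hb]; exact comT _ B1)
  · exact Subtype.ext (show elt hF (p 0) * ⁅(v : SU 3 F 4), cv T (cv T v)⁆ =
      ⁅(v : SU 3 F 4), cv T (cv T v)⁆ * elt hF (p 0) by rw [hb]; exact comE _ _ B1)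
  · exact Subtype.ext (show ⁅(v : SU 3 F 4), cv T v⁆ * ⁅(v : SU 3 F 4), cv T v⁆ = 1 by rw [ha]; exact sq0 _ A1)
  · exact Subtype.ext (show ⁅(v : SU 3 F 4), cv T (cv T v)⁆ * ⁅(v : SU 3 F 4), cv T (cv T v)⁆ = 1 by
      rw [hb]; exact sq0 _ B1)
  · refine Subtype.ext (show elt hF (p 0) * elt hF (p 0) =
      ⁅(v : SU 3 F 4), cv T v⁆ * ⁅(v : SU 3 F 4), cv T (cv T v)⁆ from ?_)
    rw [ha, hb, elt_mul, elt_mul]
    refine elt_congr hF ?_
    simp only [pmul, A, B]
    refine Prod.ext ?_ ?_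
    · show μ ^ 0 + μ ^ 0 = (0 : F) + 0
      linear_combination h2
    · show β + β + (μ ^ 0) ^ 4 * μ ^ 0 = μ + μ ^ 4 + (μ ^ 2 + μ ^ 3) + 0 ^ 4 * 0
      rw [hβ]
      linear_combination -hS + (μ + μ ^ 3 + 1) * h2
  · refine Subtype.ext (show cv T (cv T (cv T (cv T (elt hF (p 0))))) = elt hF (p 0) * cv T (elt hF (p 0)) *
      cv T (cv T (elt hF (p 0))) * cv T (cv T (cv T (elt hF (p 0)))) from ?_)
    rw [hcvp, hcvp, hcvp, hcvp, elt_mul, elt_mul, elt_mul]
    refine elt_congr hF ?_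
    simp only [pmul, p, zero_add]
    refine Prod.ext ?_ ?_
    · show μ ^ 4 = μ ^ 0 + μ ^ 1 + μ ^ 2 + μ ^ 3
      linear_combination -hS + μ ^ 4 * h2
    · show β = β + β + (μ ^ 0) ^ 4 * μ ^ 1 + β + (μ ^ 0 + μ ^ 1) ^ 4 * μ ^ 2 + β + (μ ^ 0 + μ ^ 1 + μ ^ 2) ^ 4 * μ ^ 3
      rw [h4, h4, h4, hβ]
      linear_combination -(μ ^ 1 + μ ^ 2 + μ ^ 6 + μ) * hμ5 - (2 * μ + 2 * μ ^ 3 + μ ^ 2 + μ) * h2
  · intro h
    have h1 := congrArg (fun g : Subgroup.centralizer ({t} : Set (SU 3 F 4)) => ent (g : SU 3 F 4) 0 0) h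
    simp [c, hT, ent_tor] at h1
    exact hx1 h1
  · intro h
    have h1 : ⁅(v : SU 3 F 4), cv T v⁆ = 1 := congrArg Subtype.val h
    rw [ha] at h1
    refine ne1 _ ?_ h1
    rw [A]
    intro h0
    have : μ ^ 3 = 1 := by
      have h' : μ * (1 + μ ^ 3) = 0 := by linear_combination h0
      linear_combination ((mul_eq_zero.1 h').resolve_left hμ0) - h2
    exact hμ1 (by linear_combination (μ ^ 3 + 1) * this - μ * hμ5)
  · intro h
    have h1 : ⁅(v : SU 3 F 4), cv T (cv T v)⁆ = 1 := congrArg Subtype.val h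
    rw [hb] at h1
    refine ne1 _ ?_ h1
    rw [B]
    intro h0
    have h' : μ ^ 2 * (1 + μ) = 0 := by linear_combination h0
    exact hμ1 (by linear_combination ((mul_eq_zero.1 h').resolve_left (pow_ne_zero 2 hμ0)) - h2)
  · intro h
    have h1 : ⁅(v : SU 3 F 4), cv T v⁆ = ⁅(v : SU 3 F 4), cv T (cv T v)⁆ := congrArg Subtype.val h
    rw [ha, hb] at h1
    refine ne _ _ ?_ h1
    rw [A, B]
    intro h0
    have h0' : μ + μ ^ 4 = μ ^ 2 + μ ^ 3 := congrArg Prod.snd h0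
    exact one_ne_zero (α := F) (by linear_combination hS - h0' - (μ ^ 2 + μ ^ 3) * h2)
  · -- the order
    let f : {y : F // y ^ 5 = 1} × Pts F → Subgroup.centralizer ({t} : Set (SU 3 F 4)) := fun z =>
      ⟨elt hF z.2 * tor z.1.1 z.1.2, mul_mem (hpt' _) (by
        rw [Subgroup.mem_centralizer_singleton_iff]
        have h := tor_elt hF z.1.2 pt pt (Prod.ext (by simp [pt]) rfl)
        rw [cv, mul_inv_eq_iff_eq_mul] at h
        exact h)⟩
    have hf : Function.Surjective f := by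
      rintro ⟨g, hg⟩
      have hc : ent g * mat 0 1 = mat 0 1 * ent g :=
        congrArg ent (Subgroup.mem_centralizer_singleton_iff.1 hg)
      set M := ent g with hM
      have h11 : (1 : F) + 1 = 0 := by linear_combination h2
      have e00 := congrFun (congrFun hc 0) 0
      have e01 := congrFun (congrFun hc 0) 1
      have e02 := congrFun (congrFun hc 0) 2
      have e20 := congrFun (congrFun hc 2) 0
      simp [mat, Matrix.mul_apply, Fin.sum_univ_three, h11] at e00 e01 e02 e20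
      have hdet : M.det = 1 := (g : Matrix.SpecialLinearGroup (Fin 3) F).2
      have hform : ∀ u v, hermForm 3 F 4 (M *ᵥ u) (M *ᵥ v) = hermForm 3 F 4 u v := g.2
      have k00 := hform (Pi.single 0 1) (Pi.single 0 1)
      have k01 := hform (Pi.single 0 1) (Pi.single 1 1)
      simp [hermForm, Fin.sum_univ_three, Matrix.mulVec_single_one, Pi.single_apply] at k00 k01
      set l := M 0 0 + M 0 1 with hl
      have hl5 : l ^ 5 = 1 := by
        rw [hl, pow_succ, h4]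
        have m10 : M 1 0 = M 0 1 := by linear_combination -e00
        have m11 : M 1 1 = M 0 0 := by linear_combination -e01
        have m21 : M 2 1 = M 2 0 := e20
        rw [m10] at k00
        rw [m10, m11, m21] at k01
        linear_combination k00 + k01 - (M 2 0 * M 2 0 ^ 4) * h2
      let T' := tor l hl5
      have hs : g * T'⁻¹ ∈ stab (F := F) := by
        show ent (g * T'⁻¹) *ᵥ ![1, 1, 0] = ![1, 1, 0]
        have hT'v : ent T' *ᵥ ![1, 1, 0] = l • ![1, 1, 0] := by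
          ext i
          fin_cases i <;> simp [T', ent_tor, Matrix.mulVec, dotProduct, Fin.sum_univ_three]
        have hgv : M *ᵥ ![1, 1, 0] = l • ![1, 1, 0] := by
          ext i
          fin_cases i <;> simp [Matrix.mulVec, dotProduct, Fin.sum_univ_three, hl]
          · linear_combination -e00 - e01
          · linear_combination e20 + M 2 0 * h2
        have h3 : ent (g * T'⁻¹) * ent T' = M := by rw [← ent_mul, inv_mul_cancel_right]
        have hl0 : l ≠ 0 := fun h => by rw [h] at hl5; simp at hl5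
        have h4' : ent (g * T'⁻¹) *ᵥ (l • ![1, 1, 0]) = l • ![1, 1, 0] := by
          rw [← hT'v, Matrix.mulVec_mulVec, h3, hgv, hT'v]
        rw [Matrix.mulVec_smul] at h4'
        exact smul_right_injective _ hl0 h4'
      obtain ⟨q, hq⟩ := (mem_stab_iff hF _).1 hs
      refine ⟨(⟨l, hl5⟩, q), Subtype.ext ?_⟩
      show elt hF q * T' = g
      rw [hq, inv_mul_cancel_right]
    obtain ⟨-, -, h5, -, h64⟩ := field_facts hF
    calc Nat.card (Subgroup.centralizer ({t} : Set (SU 3 F 4)))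
        ≤ Nat.card ({y : F // y ^ 5 = 1} × Pts F) := Nat.card_le_card_of_surjective f hf
      _ = 320 := by rw [Nat.card_prod, h5 1 (one_pow 4) one_ne_zero, h64]

end CfsgLib.UThreeFour
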